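import Mathlib
import Groth.Prelude.Def_DeRham
import Groth.Agent.Lib.Helper6.DeRhamGen

/-! Contraction of Kähler forms against a derivation, and the Cartan (Lie derivative) formula on
eigen-generators. -/

universe u
open exteriorPower

namespace Groth.Agent.Lib.Helper5.Poinc

section
variable {R B : Type u} [CommRing R] [CommRing B] [Algebra R B] (E : Derivation R B B)

local notation "DB" => KaehlerDifferential.D R B

/-- the `B`-linear form on `Ω_B` attached to the derivation `E` -/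
noncomputable def eps : Ω[B⁄R] →ₗ[B] B := E.liftKaehlerDifferential

theorem eps_D (f : B) : eps E (DB f) = E f := Derivation.liftKaehlerDifferential_comp_D E f

/-- contraction of `(p+1)`-forms against `E` -/
noncomputable def contr (p : ℕ) : ↥(⋀[B]^(p+1) (Ω[B⁄R])) →ₗ[B] ↥(⋀[B]^p (Ω[B⁄R])) :=
  alternatingMapLinearEquiv
    (AlternatingMap.alternatizeUncurryFin ((eps E).smulRight (ιMulti B p)))

theorem contr_ιMulti (p : ℕ) (v : Fin (p+1) → Ω[B⁄R]) :
    contr E p (ιMulti B (p+1) v) =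
      ∑ i : Fin (p+1), (-1 : ℤ)^(i:ℕ) • (eps E (v i) • ιMulti B p (Fin.removeNth i v)) := by
  rw [contr, alternatingMapLinearEquiv_apply_ιMulti, AlternatingMap.alternatizeUncurryFin_apply]
  rfl

theorem contr_gen (p : ℕ) (b₀ : B) (b : Fin (p+1) → B) :
    contr E p (DeRham.gen DB (p+1) b₀ b) =
      ∑ i : Fin (p+1), (-1 : ℤ)^(i:ℕ) • DeRham.gen DB p (b₀ * E (b i)) (Fin.removeNth i b) := by
  unfold DeRham.gen
  rw [map_smul, contr_ιMulti, Finset.smul_sum]
  refine Finset.sum_congr rfl fun i _ => ?_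
  rw [eps_D, smul_comm, smul_smul]
  rfl

variable (d' : ∀ p : ℕ, ↥(⋀[B]^p (Ω[B⁄R])) →ₗ[R] ↥(⋀[B]^(p + 1) (Ω[B⁄R])))

theorem d_contr_gen (hd' : DeRham.IsDiff DB d') (p : ℕ) (b₀ : B) (b : Fin (p+1) → B) :
    d' p (contr E p (DeRham.gen DB (p+1) b₀ b)) =
      ∑ i : Fin (p+1), (-1 : ℤ)^(i:ℕ) •
        ιMulti B (p+1) (Fin.cons (DB (b₀ * E (b i))) (fun k => DB (Fin.removeNth i b k))) := by
  rw [contr_gen, map_sum]
  refine Finset.sum_congr rfl fun i _ => ?_
  rw [map_zsmul, hd'.1]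

theorem removeNth_succ_cons {α : Type*} {n : ℕ} (j : Fin (n+1)) (x : α) (w : Fin (n+1) → α) :
    Fin.removeNth j.succ (Fin.cons x w : Fin (n+2) → α) = Fin.cons x (Fin.removeNth j w) := by
  funext k
  refine Fin.cases ?_ (fun k => ?_) k
  · simp [Fin.removeNth_apply]
  · simp [Fin.removeNth_apply]

theorem contr_d_gen (hd' : DeRham.IsDiff DB d') (p : ℕ) (b₀ : B) (b : Fin (p+1) → B) :
    contr E (p+1) (d' (p+1) (DeRham.gen DB (p+1) b₀ b)) =
      E b₀ • ιMulti B (p+1) (fun k => DB (b k)) -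
      ∑ j : Fin (p+1), (-1 : ℤ)^(j:ℕ) •
        (E (b j) • ιMulti B (p+1) (Fin.cons (DB b₀) (fun k => DB (Fin.removeNth j b k)))) := by
  rw [hd'.1, contr_ιMulti, Fin.sum_univ_succ]
  simp only [Fin.val_zero, pow_zero, one_smul, Fin.cons_zero, eps_D, Fin.removeNth_zero,
    Fin.tail_cons, Fin.cons_succ, Fin.val_succ, pow_succ, mul_neg, mul_one, neg_smul,
    Finset.sum_neg_distrib]
  rw [sub_eq_add_neg]
  congr 2
  refine Finset.sum_congr rfl fun j _ => ?_
  rw [removeNth_succ_cons]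
  rfl

theorem neg_one_pow_smul_cons_removeNth (p : ℕ) (w : Fin (p+1) → Ω[B⁄R]) (j : Fin (p+1)) :
    (-1 : ℤ)^(j:ℕ) • ιMulti B (p+1) (Fin.cons (w j) (Fin.removeNth j w)) = ιMulti B (p+1) w := by
  have h := AlternatingMap.neg_one_pow_smul_map_insertNth (ιMulti B (p+1)) j (w j)
    (Fin.removeNth j w)
  rw [Fin.insertNth_self_removeNth] at h
  have h2 : ιMulti B (p+1) w = (-1 : ℤ)^(j:ℕ) • ιMulti B (p+1) (Matrix.vecCons (w j) (Fin.removeNth j w)) := by
    rw [← h, smul_smul, ← pow_add, Even.neg_one_pow ⟨_, rfl⟩, one_smul]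
  rw [h2]
  rfl

/-- Cartan formula on eigen-generators, positive degree. -/
theorem lie_gen_succ (hd' : DeRham.IsDiff DB d') (p : ℕ) (b₀ : B) (b : Fin (p+1) → B)
    (n₀ : ℕ) (n : Fin (p+1) → ℕ) (h₀ : E b₀ = n₀ • b₀) (h : ∀ j, E (b j) = n j • b j) :
    d' p (contr E p (DeRham.gen DB (p+1) b₀ b)) +
      contr E (p+1) (d' (p+1) (DeRham.gen DB (p+1) b₀ b)) =
      (n₀ + ∑ j, n j) • DeRham.gen DB (p+1) b₀ b := by
  rw [d_contr_gen E d' hd', contr_d_gen E d' hd']
  rw [show ∀ (x y z : ↥(⋀[B]^(p+1) (Ω[B⁄R]))), x + (y - z) = y + (x - z) from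
    fun x y z => by abel, ← Finset.sum_sub_distrib]
  have key : ∀ j : Fin (p+1),
      (-1 : ℤ)^(j:ℕ) •
        ιMulti B (p+1) (Fin.cons (DB (b₀ * E (b j))) (fun k => DB (Fin.removeNth j b k))) -
      (-1 : ℤ)^(j:ℕ) •
        (E (b j) • ιMulti B (p+1) (Fin.cons (DB b₀) (fun k => DB (Fin.removeNth j b k)))) =
      n j • DeRham.gen DB (p+1) b₀ b := by
    intro j
    set w : Fin p → Ω[B⁄R] := fun k => DB (Fin.removeNth j b k) with hw
    have e1 : ιMulti B (p+1) (Fin.cons (DB (b₀ * E (b j))) w) =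
        b₀ • ιMulti B (p+1) (Fin.cons (DB (E (b j))) w) +
          E (b j) • ιMulti B (p+1) (Fin.cons (DB b₀) w) := by
      rw [Derivation.leibniz]
      rw [← Groth.Agent.H6.DR.wedgeLeft_apply, ← Groth.Agent.H6.DR.wedgeLeft_apply,
        ← Groth.Agent.H6.DR.wedgeLeft_apply, map_add, map_smul, map_smul]
    rw [e1, smul_add, add_sub_cancel_right, h j, map_nsmul]
    have e2 : ιMulti B (p+1) (Fin.cons (n j • DB (b j)) w) =
        n j • ιMulti B (p+1) (Fin.cons (DB (b j)) w) := by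
      rw [← Groth.Agent.H6.DR.wedgeLeft_apply, ← Groth.Agent.H6.DR.wedgeLeft_apply, map_nsmul]
    rw [e2]
    have e3 := neg_one_pow_smul_cons_removeNth p (fun k => DB (b k)) j
    have e4 : (Fin.removeNth j fun k => DB (b k)) = w := rfl
    rw [e4] at e3
    unfold DeRham.gen
    rw [← e3]
    rw [smul_comm b₀ (n j), smul_comm ((-1:ℤ)^(j:ℕ)) (n j), smul_comm ((-1:ℤ)^(j:ℕ)) b₀]
  rw [Finset.sum_congr rfl (fun j _ => key j), h₀, add_smul, Finset.sum_smul]
  unfold DeRham.gen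
  rw [smul_assoc]

/-- Cartan formula on eigen-generators, degree zero. -/
theorem lie_gen_zero (hd' : DeRham.IsDiff DB d') (b₀ : B) (b : Fin 0 → B)
    (n₀ : ℕ) (h₀ : E b₀ = n₀ • b₀) :
    contr E 0 (d' 0 (DeRham.gen DB 0 b₀ b)) = n₀ • DeRham.gen DB 0 b₀ b := by
  rw [hd'.1, contr_ιMulti, Fin.sum_univ_succ]
  simp only [Fin.val_zero, pow_zero, one_smul, Fin.cons_zero, eps_D, Finset.univ_eq_empty,
    Finset.sum_empty, add_zero]
  unfold DeRham.gen
  rw [h₀, smul_assoc]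
  congr 2

end

end Groth.Agent.Lib.Helper5.Poinc
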