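import Mathlib
import Groth.Prelude.Def_DeRham
import Groth.Agent.Lib.Helper6.DeRhamGen
import Groth.Agent.Lib.Helper5.Poinc.A

/-! Contraction against a linear form on a general receptacle `(M, δ)`, Cartan formula on
generators whose entries are eigen for the derivation `E = ε ∘ δ`. -/

universe v u
open exteriorPower

namespace Groth.Agent.Lib.Helper5.Poinc

section
variable {R : Type v} {B M : Type u} [CommRing R] [CommRing B] [Algebra R B]
  [AddCommGroup M] [Module B M] [Module R M] [IsScalarTower R B M]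
  (δ : Derivation R B M) (ε : M →ₗ[B] B)

/-- contraction of `(p+1)`-forms against the linear form `ε` -/
noncomputable def contrG (p : ℕ) : ↥(⋀[B]^(p+1) M) →ₗ[B] ↥(⋀[B]^p M) :=
  alternatingMapLinearEquiv
    (AlternatingMap.alternatizeUncurryFin (ε.smulRight (ιMulti B p)))

theorem contrG_ιMulti (p : ℕ) (v : Fin (p+1) → M) :
    contrG ε p (ιMulti B (p+1) v) =
      ∑ i : Fin (p+1), (-1 : ℤ)^(i:ℕ) • (ε (v i) • ιMulti B p (Fin.removeNth i v)) := by
  rw [contrG, alternatingMapLinearEquiv_apply_ιMulti, AlternatingMap.alternatizeUncurryFin_apply]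
  rfl

theorem contrG_gen (p : ℕ) (b₀ : B) (b : Fin (p+1) → B) :
    contrG ε p (DeRham.gen δ (p+1) b₀ b) =
      ∑ i : Fin (p+1), (-1 : ℤ)^(i:ℕ) • DeRham.gen δ p (b₀ * ε (δ (b i))) (Fin.removeNth i b) := by
  unfold DeRham.gen
  rw [map_smul, contrG_ιMulti, Finset.smul_sum]
  refine Finset.sum_congr rfl fun i _ => ?_
  rw [smul_comm, smul_smul]
  rfl

variable (d' : ∀ p : ℕ, ↥(⋀[B]^p M) →ₗ[R] ↥(⋀[B]^(p + 1) M))

theorem d_contrG_gen (hd' : DeRham.IsDiff δ d') (p : ℕ) (b₀ : B) (b : Fin (p+1) → B) :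
    d' p (contrG ε p (DeRham.gen δ (p+1) b₀ b)) =
      ∑ i : Fin (p+1), (-1 : ℤ)^(i:ℕ) •
        ιMulti B (p+1) (Fin.cons (δ (b₀ * ε (δ (b i)))) (fun k => δ (Fin.removeNth i b k))) := by
  rw [contrG_gen, map_sum]
  refine Finset.sum_congr rfl fun i _ => ?_
  rw [map_zsmul, hd'.1]

theorem contrG_d_gen (hd' : DeRham.IsDiff δ d') (p : ℕ) (b₀ : B) (b : Fin (p+1) → B) :
    contrG ε (p+1) (d' (p+1) (DeRham.gen δ (p+1) b₀ b)) =
      ε (δ b₀) • ιMulti B (p+1) (fun k => δ (b k)) -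
      ∑ j : Fin (p+1), (-1 : ℤ)^(j:ℕ) •
        (ε (δ (b j)) • ιMulti B (p+1) (Fin.cons (δ b₀) (fun k => δ (Fin.removeNth j b k)))) := by
  rw [hd'.1, contrG_ιMulti, Fin.sum_univ_succ]
  simp only [Fin.val_zero, pow_zero, one_smul, Fin.cons_zero, Fin.removeNth_zero,
    Fin.tail_cons, Fin.cons_succ, Fin.val_succ, pow_succ, mul_neg, mul_one, neg_smul,
    Finset.sum_neg_distrib]
  rw [sub_eq_add_neg]
  congr 2
  refine Finset.sum_congr rfl fun j _ => ?_
  rw [removeNth_succ_cons]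
  rfl

theorem neg_one_pow_smul_cons_removeNthG (p : ℕ) (w : Fin (p+1) → M) (j : Fin (p+1)) :
    (-1 : ℤ)^(j:ℕ) • ιMulti B (p+1) (Fin.cons (w j) (Fin.removeNth j w)) = ιMulti B (p+1) w := by
  have h := AlternatingMap.neg_one_pow_smul_map_insertNth (ιMulti B (p+1)) j (w j)
    (Fin.removeNth j w)
  rw [Fin.insertNth_self_removeNth] at h
  have h2 : ιMulti B (p+1) w = (-1 : ℤ)^(j:ℕ) • ιMulti B (p+1) (Matrix.vecCons (w j) (Fin.removeNth j w)) := by
    rw [← h, smul_smul, ← pow_add, Even.neg_one_pow ⟨_, rfl⟩, one_smul]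
  rw [h2]
  rfl

/-- Cartan formula on generators whose wedge entries are eigen, positive degree. -/
theorem lieG_gen_succ (hd' : DeRham.IsDiff δ d') (p : ℕ) (b₀ : B) (b : Fin (p+1) → B)
    (n : Fin (p+1) → ℕ) (h : ∀ j, ε (δ (b j)) = n j • b j) :
    d' p (contrG ε p (DeRham.gen δ (p+1) b₀ b)) +
      contrG ε (p+1) (d' (p+1) (DeRham.gen δ (p+1) b₀ b)) =
      DeRham.gen δ (p+1) (ε (δ b₀)) b + (∑ j, n j) • DeRham.gen δ (p+1) b₀ b := by
  rw [d_contrG_gen δ ε d' hd', contrG_d_gen δ ε d' hd']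
  rw [show ∀ (x y z : ↥(⋀[B]^(p+1) M)), x + (y - z) = y + (x - z) from
    fun x y z => by abel, ← Finset.sum_sub_distrib]
  have key : ∀ j : Fin (p+1),
      (-1 : ℤ)^(j:ℕ) •
        ιMulti B (p+1) (Fin.cons (δ (b₀ * ε (δ (b j)))) (fun k => δ (Fin.removeNth j b k))) -
      (-1 : ℤ)^(j:ℕ) •
        (ε (δ (b j)) • ιMulti B (p+1) (Fin.cons (δ b₀) (fun k => δ (Fin.removeNth j b k)))) =
      n j • DeRham.gen δ (p+1) b₀ b := by
    intro j
    set w : Fin p → M := fun k => δ (Fin.removeNth j b k) with hw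
    have e1 : ιMulti B (p+1) (Fin.cons (δ (b₀ * ε (δ (b j)))) w) =
        b₀ • ιMulti B (p+1) (Fin.cons (δ (ε (δ (b j)))) w) +
          ε (δ (b j)) • ιMulti B (p+1) (Fin.cons (δ b₀) w) := by
      rw [δ.leibniz]
      rw [← Groth.Agent.H6.DR.wedgeLeft_apply, ← Groth.Agent.H6.DR.wedgeLeft_apply,
        ← Groth.Agent.H6.DR.wedgeLeft_apply, map_add, map_smul, map_smul]
    rw [e1, smul_add, add_sub_cancel_right, h j, map_nsmul]
    have e2 : ιMulti B (p+1) (Fin.cons (n j • δ (b j)) w) =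
        n j • ιMulti B (p+1) (Fin.cons (δ (b j)) w) := by
      rw [← Groth.Agent.H6.DR.wedgeLeft_apply, ← Groth.Agent.H6.DR.wedgeLeft_apply, map_nsmul]
    rw [e2]
    have e3 := neg_one_pow_smul_cons_removeNthG (B := B) p (fun k => δ (b k)) j
    have e4 : (Fin.removeNth j fun k => δ (b k)) = w := rfl
    rw [e4] at e3
    unfold DeRham.gen
    rw [← e3]
    rw [smul_comm b₀ (n j), smul_comm ((-1:ℤ)^(j:ℕ)) (n j), smul_comm ((-1:ℤ)^(j:ℕ)) b₀]
  rw [Finset.sum_congr rfl (fun j _ => key j), Finset.sum_smul]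
  rfl

end

end Groth.Agent.Lib.Helper5.Poinc
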