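import Mathlib
import Groth.Prelude.Def_DeRham
import Groth.Agent.Lib.Helper6.DeRhamGen
import Groth.Agent.Lib.Helper6.DeRhamMap
import Groth.Agent.Lib.Helper5.Poinc.A

universe u
open exteriorPower Polynomial

namespace Groth.Agent.Lib.Helper5.Poinc

/-- separation of eigen-components inside a stable submodule, over a `ℚ`-algebra -/
theorem eigen_mem {R F : Type*} [CommRing R] [Algebra ℚ R] [AddCommGroup F] [Module R F]
    (L : F →ₗ[R] F) (V : Submodule R F) (hV : ∀ v ∈ V, L v ∈ V) :
    ∀ (S : Finset ℕ) (z : ℕ → F), (∀ n ∈ S, L (z n) = (n : R) • z n) →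
      ∑ n ∈ S, z n ∈ V → ∀ n ∈ S, z n ∈ V := by
  classical
  intro S
  induction S using Finset.induction_on with
  | empty => intro z _ _ n hn; simp at hn
  | insert m S' hm ih =>
    intro z hz hsum
    rw [Finset.sum_insert hm] at hsum
    have h1 : L (z m + ∑ n ∈ S', z n) - (m : R) • (z m + ∑ n ∈ S', z n) ∈ V :=
      V.sub_mem (hV _ hsum) (V.smul_mem _ hsum)
    have h2 : L (z m + ∑ n ∈ S', z n) - (m : R) • (z m + ∑ n ∈ S', z n) =
        ∑ n ∈ S', ((n : R) - m) • z n := by
      rw [map_add, map_sum, hz m (Finset.mem_insert_self _ _), smul_add, Finset.smul_sum,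
        add_sub_add_left_eq_sub, ← Finset.sum_sub_distrib]
      refine Finset.sum_congr rfl fun n hn => ?_
      rw [hz n (Finset.mem_insert_of_mem hn), sub_smul]
    rw [h2] at h1
    have h3 := ih (fun n => ((n : R) - m) • z n) (fun n hn => by
      show L (((n : R) - m) • z n) = (n : R) • (((n : R) - m) • z n)
      rw [map_smul, hz n (Finset.mem_insert_of_mem hn), smul_comm]) h1
    have h4 : ∀ n ∈ S', z n ∈ V := by
      intro n hn
      have hne : n ≠ m := fun h => hm (h ▸ hn)
      have hu : IsUnit ((n : R) - (m : R)) := by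
        have : ((n : R) - (m : R)) = algebraMap ℚ R ((n : ℚ) - m) := by
          rw [map_sub, map_natCast, map_natCast]
        rw [this]
        apply IsUnit.map
        rw [isUnit_iff_ne_zero, sub_ne_zero]
        exact_mod_cast hne
      obtain ⟨u, hu⟩ := hu
      have := V.smul_mem (↑u⁻¹ : R) (h3 n hn)
      rwa [← hu, smul_smul, Units.inv_mul, one_smul] at this
    intro n hn
    rcases Finset.mem_insert.mp hn with rfl | hn
    · have : z n = (z n + ∑ k ∈ S', z k) - ∑ k ∈ S', z k := by abel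
      rw [this]
      exact V.sub_mem hsum (V.sum_mem h4)
    · exact h4 n hn

section
variable {R A : Type u} [CommRing R] [CommRing A] [Algebra R A]

local notation "DA" => KaehlerDifferential.D R A
local notation "DB" => KaehlerDifferential.D R A[X]

variable (R A) in
/-- the Euler derivation `X d/dX` of `A[X]`, as an `R`-derivation -/
noncomputable def euler : Derivation R A[X] A[X] :=
  (X : A[X]) • ((Polynomial.derivative' (R := A)).restrictScalars R)

theorem euler_apply (f : A[X]) : euler R A f = X * derivative f := rfl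

theorem euler_monomial (k : ℕ) (a : A) : euler R A (monomial k a) = k • monomial k a := by
  rw [euler_apply, derivative_monomial]
  cases k with
  | zero => simp
  | succ k =>
    rw [Nat.add_sub_cancel, X_mul_monomial, smul_monomial, nsmul_eq_mul, mul_comm]

variable (R A) in
/-- weight-`n` generators of `p`-forms on `A[X]` -/
def G (p n : ℕ) : Set ↥(⋀[A[X]]^p (Ω[A[X]⁄R])) :=
  {x | ∃ (k₀ : ℕ) (a₀ : A) (k : Fin p → ℕ) (a : Fin p → A), k₀ + ∑ i, k i = n ∧
     x = DeRham.gen DB p (monomial k₀ a₀) (fun i => monomial (k i) (a i))}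

variable (R A) in
/-- weight-`n` forms -/
noncomputable def W (p n : ℕ) : Submodule R ↥(⋀[A[X]]^p (Ω[A[X]⁄R])) := Submodule.span R (G R A p n)

variable (d' : ∀ p : ℕ, ↥(⋀[A[X]]^p (Ω[A[X]⁄R])) →ₗ[R] ↥(⋀[A[X]]^(p + 1) (Ω[A[X]⁄R])))

/-- the Lie derivative along the Euler field -/
noncomputable def lie : ∀ p : ℕ, ↥(⋀[A[X]]^p (Ω[A[X]⁄R])) →ₗ[R] ↥(⋀[A[X]]^p (Ω[A[X]⁄R]))
  | 0 => ((contr (euler R A) 0).restrictScalars R) ∘ₗ d' 0
  | p+1 => d' p ∘ₗ ((contr (euler R A) p).restrictScalars R) +
      ((contr (euler R A) (p+1)).restrictScalars R) ∘ₗ d' (p+1)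

theorem lie_W (hd' : DeRham.IsDiff DB d') (p n : ℕ) (x : ↥(⋀[A[X]]^p (Ω[A[X]⁄R])))
    (hx : x ∈ W R A p n) : lie d' p x = (n : R) • x := by
  induction hx using Submodule.span_induction with
  | mem x hx =>
    obtain ⟨k₀, a₀, k, a, hsum, rfl⟩ := hx
    rw [Nat.cast_smul_eq_nsmul]
    cases p with
    | zero =>
      have := lie_gen_zero (euler R A) d' hd' (monomial k₀ a₀) (fun i => monomial (k i) (a i)) k₀
        (euler_monomial k₀ a₀)
      simp only [Finset.univ_eq_empty, Finset.sum_empty, add_zero] at hsum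
      rw [← hsum]
      exact this
    | succ p =>
      have := lie_gen_succ (euler R A) d' hd' p (monomial k₀ a₀) (fun i => monomial (k i) (a i))
        k₀ k (euler_monomial k₀ a₀) (fun j => euler_monomial (k j) (a j))
      rw [← hsum]
      exact this
  | zero => simp
  | add x y _ _ hx hy => rw [map_add, hx, hy, smul_add]
  | smul c x _ hx => rw [map_smul, hx, smul_comm]

theorem iSup_W (p : ℕ) : (⨆ n, W R A p n) = ⊤ := by
  rw [eq_top_iff]
  rintro y -
  set s : Set (Ω[A[X]⁄R]) := {ω | ∃ (k : ℕ) (a : A), ω = DB (monomial k a)} with hs_def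
  have hs : Submodule.span A[X] s = ⊤ := by
    rw [eq_top_iff, ← KaehlerDifferential.span_range_derivation R A[X], Submodule.span_le]
    rintro _ ⟨f, rfl⟩
    induction f using Polynomial.induction_on' with
    | add f g hf hg => rw [map_add]; exact Submodule.add_mem _ hf hg
    | monomial k a => exact Submodule.subset_span ⟨k, a, rfl⟩
  have hy : y ∈ Submodule.span A[X] (ιMulti A[X] p '' {v | Set.range v ⊆ s}) := by
    rw [ιMulti_span_of_span A[X] p (Ω[A[X]⁄R]) hs]; trivial
  suffices h : ∀ β : A[X], β • y ∈ ⨆ n, W R A p n by simpa using h 1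
  induction hy using Submodule.span_induction with
  | mem x hx =>
    obtain ⟨v, hv, rfl⟩ := hx
    choose k a hka using fun i => hv (Set.mem_range_self i)
    have hv' : v = fun i => DB (monomial (k i) (a i)) := funext hka
    intro β
    induction β using Polynomial.induction_on' with
    | add f g hf hg => rw [add_smul]; exact Submodule.add_mem _ hf hg
    | monomial k₀ a₀ =>
      apply Submodule.mem_iSup_of_mem (k₀ + ∑ i, k i)
      apply Submodule.subset_span
      refine ⟨k₀, a₀, k, a, rfl, ?_⟩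
      rw [hv']; rfl
  | zero => intro β; simp
  | add x y _ _ hx hy => intro β; rw [smul_add]; exact Submodule.add_mem _ (hx β) (hy β)
  | smul c x _ hx => intro β; rw [smul_smul]; exact hx _

theorem W_zero_le (p : ℕ) :
    W R A p 0 ≤ LinearMap.range ((Groth.Agent.H6.DR.cxMap R R A A[X] p).restrictScalars R) := by
  apply Submodule.span_le.mpr
  rintro _ ⟨k₀, a₀, k, a, hsum, rfl⟩
  have h0 : k₀ = 0 := by omega
  have hk : ∀ i, k i = 0 := by
    intro i
    have : ∑ i, k i = 0 := by omega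
    exact (Finset.sum_eq_zero_iff.mp this) i (Finset.mem_univ _)
  refine ⟨DeRham.gen DA p a₀ a, ?_⟩
  rw [LinearMap.restrictScalars_apply, Groth.Agent.H6.DR.cxMap_gen]
  subst h0
  congr 1
  funext i
  rw [hk i]
  rfl

theorem exists_rho : ∃ ρ : ∀ p : ℕ, ↥(⋀[A[X]]^p (Ω[A[X]⁄R])) →+ ↥(⋀[A]^p (Ω[A⁄R])),
    DeRham.IsCxMap DB DA (Polynomial.evalRingHom (0:A)) ρ := by
  letI : Algebra A[X] A := (Polynomial.evalRingHom (0:A)).toAlgebra
  haveI : IsScalarTower R A[X] A := IsScalarTower.of_algebraMap_eq (fun r => by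
    rw [RingHom.algebraMap_toAlgebra, Polynomial.algebraMap_apply]
    simp)
  exact ⟨fun p => (Groth.Agent.H6.DR.cxMap R R A[X] A p).toAddMonoidHom,
    Groth.Agent.H6.DR.isCxMap_cxMap R R A[X] A⟩

end

/-- an induced map of Kähler de Rham complexes commutes with the differentials -/
theorem chain_of_isCxMap {R A A' : Type u} [CommRing R] [CommRing A] [CommRing A']
    [Algebra R A] [Algebra R A'] (g : A →+* A')
    (d : ∀ p : ℕ, ↥(⋀[A]^p (Ω[A⁄R])) →ₗ[R] ↥(⋀[A]^(p + 1) (Ω[A⁄R])))
    (hd : DeRham.IsDiff (KaehlerDifferential.D R A) d)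
    (d' : ∀ p : ℕ, ↥(⋀[A']^p (Ω[A'⁄R])) →ₗ[R] ↥(⋀[A']^(p + 1) (Ω[A'⁄R])))
    (hd' : DeRham.IsDiff (KaehlerDifferential.D R A') d')
    (ψ : ∀ p : ℕ, ↥(⋀[A]^p (Ω[A⁄R])) →+ ↥(⋀[A']^p (Ω[A'⁄R])))
    (hψ : DeRham.IsCxMap (KaehlerDifferential.D R A) (KaehlerDifferential.D R A') g ψ)
    (p : ℕ) (x : ↥(⋀[A]^p (Ω[A⁄R]))) :
    ψ (p + 1) (d p x) = d' p (ψ p x) := by
  have hδ := KaehlerDifferential.span_range_derivation R A
  induction x using Groth.Agent.H6.DR.gen_induction (KaehlerDifferential.D R A) hδ p with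
  | h0 => simp
  | hadd x y hx hy => simp only [map_add, hx, hy]
  | hgen b₀ b =>
    rw [hd.1 p b₀ b, Groth.Agent.H6.DR.ιMulti_cons_eq_gen, hψ (p + 1) 1 (Fin.cons b₀ b),
      hψ p b₀ b, hd'.1 p, map_one]
    unfold DeRham.gen
    rw [one_smul]
    congr 1
    funext i
    refine Fin.cases ?_ (fun j => ?_) i <;> simp

end Groth.Agent.Lib.Helper5.Poinc
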