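import Mathlib
import Groth.Prelude.Def_DeRham
import Groth.Agent.Lib.Helper5.Poinc.B

universe u
open exteriorPower Polynomial

namespace Groth.Agent.Lib.Helper5.Poinc

theorem main15536 (R A : Type u) [CommRing R]
    [CommRing A] [Algebra R A] [Algebra ℚ R]
    (d : ∀ p : ℕ, ↥(⋀[A]^p (Ω[A⁄R])) →ₗ[R] ↥(⋀[A]^(p + 1) (Ω[A⁄R])))
    (hd : DeRham.IsDiff (KaehlerDifferential.D R A) d)
    (d' : ∀ p : ℕ, ↥(⋀[A[X]]^p (Ω[A[X]⁄R])) →ₗ[R] ↥(⋀[A[X]]^(p + 1) (Ω[A[X]⁄R])))
    (hd' : DeRham.IsDiff (KaehlerDifferential.D R A[X]) d')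
    (ψ : ∀ p : ℕ, ↥(⋀[A]^p (Ω[A⁄R])) →+ ↥(⋀[A[X]]^p (Ω[A[X]⁄R])))
    (hψ : DeRham.IsCxMap (KaehlerDifferential.D R A) (KaehlerDifferential.D R A[X]) (algebraMap A A[X]) ψ)
    (hcomm : ∀ (p : ℕ) (x : ↥(⋀[A]^p (Ω[A⁄R]))), ψ (p + 1) (d p x) = d' p (ψ p x)) (i : ℕ) :
    (∀ y ∈ DeRham.cocycles d' i, ∃ x ∈ DeRham.cocycles d i, y - ψ i x ∈ DeRham.coboundaries d' i) ∧
      (∀ x ∈ DeRham.cocycles d i, ψ i x ∈ DeRham.coboundaries d' i → x ∈ DeRham.coboundaries d i) := by
  classical
  have hψeq : ∀ p x, ψ p x = Groth.Agent.H6.DR.cxMap R R A A[X] p x := fun p x => by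
    rw [Groth.Agent.H6.DR.eq_cxMap_of_isCxMap R R A A[X] ψ hψ p]; rfl
  obtain ⟨ρ, hρ⟩ := exists_rho (R := R) (A := A)
  have hρψ : ∀ p x, ρ p (ψ p x) = x := by
    intro p x
    induction x using Groth.Agent.H6.DR.gen_induction (KaehlerDifferential.D R A)
      (KaehlerDifferential.span_range_derivation R A) p with
    | h0 => simp
    | hadd x y hx hy => rw [map_add, map_add, hx, hy]
    | hgen b₀ b =>
      rw [hψ p b₀ b, hρ p]
      simp
  have hρd : ∀ p y, ρ (p + 1) (d' p y) = d p (ρ p y) :=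
    chain_of_isCxMap (Polynomial.evalRingHom (0:A)) d' hd' d hd ρ hρ
  have hinj : ∀ p, Function.Injective (ψ p) := fun p =>
    Function.LeftInverse.injective (hρψ p)
  constructor
  · intro y hy
    have hy_top : y ∈ ⨆ n, W R A i n := by rw [iSup_W]; trivial
    obtain ⟨f, hf, hsum⟩ := (Submodule.mem_iSup_iff_exists_finsupp _ _).mp hy_top
    have heig : ∀ n, lie d' i (f n) = (n : R) • f n := fun n => lie_W d' hd' i n (f n) (hf n)
    have hV : ∀ v ∈ DeRham.cocycles d' i, lie d' i v ∈ DeRham.cocycles d' i := by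
      intro v hv
      have hv0 : d' i v = 0 := hv
      show d' i (lie d' i v) = 0
      cases i with
      | zero =>
        show d' 0 (contr (euler R A) 0 (d' 0 v)) = 0
        rw [hv0, map_zero, map_zero]
      | succ p =>
        show d' (p+1) (d' p (contr (euler R A) p v) + contr (euler R A) (p+1) (d' (p+1) v)) = 0
        rw [hv0, map_zero, add_zero]
        exact LinearMap.congr_fun (hd'.2 p) _
    have hsum' : ∑ n ∈ f.support, f n = y := hsum
    have hmem : ∀ n ∈ f.support, f n ∈ DeRham.cocycles d' i :=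
      eigen_mem (lie d' i) (DeRham.cocycles d' i) hV f.support f (fun n _ => heig n)
        (by rw [hsum']; exact hy)
    have hf0 : f 0 ∈ DeRham.cocycles d' i := by
      by_cases h0 : 0 ∈ f.support
      · exact hmem 0 h0
      · rw [Finsupp.notMem_support_iff.mp h0]; exact Submodule.zero_mem _
    obtain ⟨x₀, hx₀⟩ := W_zero_le i (hf 0)
    rw [LinearMap.restrictScalars_apply, ← hψeq] at hx₀
    refine ⟨x₀, ?_, ?_⟩
    · show d i x₀ = 0
      apply hinj (i + 1)
      rw [hcomm, hx₀, (ψ (i + 1)).map_zero]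
      exact hf0
    · have hdiff : y - ψ i x₀ = ∑ n ∈ f.support.erase 0, f n := by
        rw [hx₀, ← hsum']
        by_cases h0 : 0 ∈ f.support
        · rw [← Finset.add_sum_erase _ _ h0]; abel
        · rw [Finset.erase_eq_of_notMem h0, Finsupp.notMem_support_iff.mp h0, sub_zero]
      rw [hdiff]
      apply Submodule.sum_mem
      intro n hn
      have hn0 : n ≠ 0 := (Finset.mem_erase.mp hn).1
      have hns : n ∈ f.support := (Finset.mem_erase.mp hn).2
      have hcl : d' i (f n) = 0 := hmem n hns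
      set u : R := algebraMap ℚ R ((n : ℚ)⁻¹) with hu
      have hun : u * (n : R) = 1 := by
        have : (n : R) = algebraMap ℚ R (n : ℚ) := by rw [map_natCast]
        rw [this, hu, ← map_mul, inv_mul_cancel₀ (by exact_mod_cast hn0), map_one]
      have hfn : f n = u • lie d' i (f n) := by
        rw [heig n, smul_smul, hun, one_smul]
      cases i with
      | zero =>
        have : f n = 0 := by
          rw [hfn]
          show u • contr (euler R A) 0 (d' 0 (f n)) = 0
          rw [hcl, map_zero, smul_zero]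
        rw [this]; exact Submodule.zero_mem _
      | succ p =>
        show f n ∈ LinearMap.range (d' p)
        refine ⟨u • contr (euler R A) p (f n), ?_⟩
        rw [map_smul]
        conv_rhs => rw [hfn]
        show u • d' p (contr (euler R A) p (f n)) =
          u • (d' p (contr (euler R A) p (f n)) + contr (euler R A) (p+1) (d' (p+1) (f n)))
        rw [hcl, map_zero, add_zero]
  · intro x hx hψx
    cases i with
    | zero =>
      have h0 : ψ 0 x = 0 := hψx
      have : x = 0 := hinj 0 (by rw [h0, map_zero])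
      rw [this]; exact Submodule.zero_mem _
    | succ p =>
      obtain ⟨z, hz⟩ := hψx
      show x ∈ LinearMap.range (d p)
      refine ⟨ρ p z, ?_⟩
      rw [← hρd, hz, hρψ]

end Groth.Agent.Lib.Helper5.Poinc
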