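import Mathlib
import Groth.Prelude.Def_DeRham
import Groth.Agent.Lib.Helper5.Poinc.D

/-! Formal Poincaré lemma for `k[[σ]]` via the Euler field. -/

universe u
open exteriorPower MvPowerSeries

namespace Groth.Agent.Lib.Helper5.Poinc

section
variable {k : Type u} [Field k] {σ : Type u} [Fintype σ]

/-- `ε(m) = Σ X_i m_i` -/
noncomputable def epsPS : (σ → MvPowerSeries σ k) →ₗ[MvPowerSeries σ k] MvPowerSeries σ k :=
  ∑ i, (X i : MvPowerSeries σ k) • LinearMap.proj i

theorem epsPS_apply (m : σ → MvPowerSeries σ k) : epsPS m = ∑ i, X i * m i := by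
  simp [epsPS, LinearMap.sum_apply]

theorem coeff_X_mul_pderiv (i : σ) (f : MvPowerSeries σ k) (α : σ →₀ ℕ) :
    coeff α (X i * pderiv k i f) = coeff α f * (α i : k) := by
  classical
  rw [X_def, coeff_monomial_mul]
  by_cases h : Finsupp.single i 1 ≤ α
  · rw [if_pos h, one_mul, coeff_pderiv, tsub_add_cancel_of_le h]
    have h1 : 1 ≤ α i := Finsupp.single_le_iff.mp h
    congr 1
    rw [Finsupp.tsub_apply, Finsupp.single_eq_same]
    have : ((α i - 1 : ℕ) : k) = (α i : k) - 1 := by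
      rw [Nat.cast_sub h1, Nat.cast_one]
    rw [this]; ring
  · rw [if_neg h]
    have h1 : α i = 0 := by
      rw [Finsupp.single_le_iff] at h
      omega
    rw [h1]; simp

variable (δ : Derivation k (MvPowerSeries σ k) (σ → MvPowerSeries σ k))
  (hδ : ∀ (f : MvPowerSeries σ k) (i : σ), δ f i = MvPowerSeries.pderiv k i f)

include hδ

theorem coeff_epsPS_delta (f : MvPowerSeries σ k) (α : σ →₀ ℕ) :
    coeff α (epsPS (δ f)) = coeff α f * ((∑ i, α i : ℕ) : k) := by
  rw [epsPS_apply, map_sum]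
  simp_rw [hδ, coeff_X_mul_pderiv]
  rw [← Finset.mul_sum, Nat.cast_sum]

theorem coeff_euler_add (q : ℕ) (f : MvPowerSeries σ k) (α : σ →₀ ℕ) :
    coeff α (epsPS (δ f) + q • f) = coeff α f * (((∑ i, α i) + q : ℕ) : k) := by
  rw [map_add, coeff_epsPS_delta δ hδ, map_nsmul, nsmul_eq_mul, Nat.cast_add]
  ring

theorem euler_add_injective [CharZero k] (q : ℕ) (hq : 1 ≤ q) (f : MvPowerSeries σ k)
    (h : epsPS (δ f) + q • f = 0) : f = 0 := by
  ext α
  have h1 := congrArg (coeff α) h
  rw [coeff_euler_add δ hδ, map_zero] at h1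
  rw [map_zero]
  rcases mul_eq_zero.mp h1 with h2 | h2
  · exact h2
  · exfalso
    have : ((∑ i, α i) + q : ℕ) ≠ 0 := by omega
    exact this (by exact_mod_cast h2)

theorem euler_add_surjective [CharZero k] (q : ℕ) (hq : 1 ≤ q) (g : MvPowerSeries σ k) :
    ∃ f : MvPowerSeries σ k, epsPS (δ f) + q • f = g := by
  refine ⟨fun α => coeff α g / (((∑ i, α i) + q : ℕ) : k), ?_⟩
  ext α
  rw [coeff_euler_add δ hδ, coeff_apply]
  have : (((∑ i, α i) + q : ℕ) : k) ≠ 0 := by
    have : ((∑ i, α i) + q : ℕ) ≠ 0 := by omega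
    exact_mod_cast this
  field_simp

theorem delta_X [DecidableEq σ] (i : σ) : δ (X i) = Pi.single i 1 := by
  funext j
  rw [hδ, pderiv_X, Pi.single_apply, Pi.single_apply]
  simp [eq_comm]

theorem epsPS_delta_X (i : σ) : epsPS (δ (X i : MvPowerSeries σ k)) = 1 • (X i : MvPowerSeries σ k) := by
  classical
  rw [epsPS_apply, delta_X δ hδ, one_smul]
  simp [Pi.single_apply]

variable [LinearOrder σ]

omit hδ in
/-- the standard basis of `q`-forms -/
noncomputable def BB (k : Type u) [Field k] (σ : Type u) [Fintype σ] [LinearOrder σ] (q : ℕ) :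
    Module.Basis (Set.powersetCard σ q) (MvPowerSeries σ k)
      ↥(⋀[MvPowerSeries σ k]^q (σ → MvPowerSeries σ k)) :=
  (Pi.basisFun (MvPowerSeries σ k) σ).exteriorPower q

theorem smul_BB_eq_gen (q : ℕ) (s : Set.powersetCard σ q) (f : MvPowerSeries σ k) :
    f • BB k σ q s = DeRham.gen δ q f (fun j => X (Set.powersetCard.ofFinEmbEquiv.symm s j)) := by
  classical
  unfold DeRham.gen
  congr 1
  rw [BB, exteriorPower.basis_apply]
  unfold ιMulti_family
  congr 1
  funext j
  rw [Function.comp_apply, Pi.basisFun_apply, delta_X δ hδ]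

variable (d : ∀ p : ℕ, ↥(⋀[MvPowerSeries σ k]^p (σ → MvPowerSeries σ k)) →ₗ[k]
      ↥(⋀[MvPowerSeries σ k]^(p + 1) (σ → MvPowerSeries σ k)))

omit hδ in
/-- the Lie derivative along the Euler field, as a function -/
noncomputable def liePS (p : ℕ) (y : ↥(⋀[MvPowerSeries σ k]^(p+1) (σ → MvPowerSeries σ k))) :
    ↥(⋀[MvPowerSeries σ k]^(p+1) (σ → MvPowerSeries σ k)) :=
  d p (contrG epsPS p y) + contrG epsPS (p+1) (d (p+1) y)

omit hδ in
theorem liePS_add (p : ℕ) (x y) : liePS d p (x + y) = liePS d p x + liePS d p y := by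
  unfold liePS
  rw [map_add, map_add, map_add, map_add]; abel

omit hδ in
theorem liePS_zero (p : ℕ) : liePS d p 0 = 0 := by
  unfold liePS; simp

omit hδ in
theorem liePS_sum (p : ℕ) {ι : Type*} (S : Finset ι)
    (g : ι → ↥(⋀[MvPowerSeries σ k]^(p+1) (σ → MvPowerSeries σ k))) :
    liePS d p (∑ s ∈ S, g s) = ∑ s ∈ S, liePS d p (g s) := by
  classical
  induction S using Finset.induction_on with
  | empty => simp [liePS_zero]
  | insert a S ha ih => rw [Finset.sum_insert ha, Finset.sum_insert ha, liePS_add, ih]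

theorem liePS_smul_BB (hd : DeRham.IsDiff δ d) (p : ℕ) (s : Set.powersetCard σ (p+1))
    (f : MvPowerSeries σ k) :
    liePS d p (f • BB k σ (p+1) s) = (epsPS (δ f) + (p+1) • f) • BB k σ (p+1) s := by
  rw [smul_BB_eq_gen δ hδ]
  unfold liePS
  rw [lieG_gen_succ δ epsPS d hd p f _ (fun _ => 1) (fun j => epsPS_delta_X δ hδ _)]
  rw [← smul_BB_eq_gen δ hδ, ← smul_BB_eq_gen δ hδ, add_smul]
  congr 1
  rw [smul_assoc]
  simp

theorem liePS_surjective [CharZero k] (hd : DeRham.IsDiff δ d) (p : ℕ)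
    (y : ↥(⋀[MvPowerSeries σ k]^(p+1) (σ → MvPowerSeries σ k))) :
    ∃ y', liePS d p y' = y := by
  classical
  set c := (BB k σ (p+1)).repr y with hc
  have hy : y = ∑ s ∈ c.support, c s • BB k σ (p+1) s := by
    conv_lhs => rw [← (BB k σ (p+1)).linearCombination_repr y]
    rw [Finsupp.linearCombination_apply, Finsupp.sum]
  choose T hT using euler_add_surjective δ hδ (p+1) (by omega)
  refine ⟨∑ s ∈ c.support, T (c s) • BB k σ (p+1) s, ?_⟩
  rw [liePS_sum]
  conv_rhs => rw [hy]
  refine Finset.sum_congr rfl fun s _ => ?_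
  rw [liePS_smul_BB δ hδ d hd, hT]

theorem liePS_injective [CharZero k] (hd : DeRham.IsDiff δ d) (p : ℕ)
    (y : ↥(⋀[MvPowerSeries σ k]^(p+1) (σ → MvPowerSeries σ k))) (h : liePS d p y = 0) : y = 0 := by
  classical
  set c := (BB k σ (p+1)).repr y with hc
  have hy : y = ∑ s ∈ c.support, c s • BB k σ (p+1) s := by
    conv_lhs => rw [← (BB k σ (p+1)).linearCombination_repr y]
    rw [Finsupp.linearCombination_apply, Finsupp.sum]
  have h1 : ∑ s ∈ c.support, (epsPS (δ (c s)) + (p+1) • c s) • BB k σ (p+1) s = 0 := by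
    rw [← h]
    conv_rhs => rw [hy]
    rw [liePS_sum]
    refine Finset.sum_congr rfl fun s _ => ?_
    rw [liePS_smul_BB δ hδ d hd]
  have h2 : ∀ t ∈ c.support, c t = 0 := by
    intro t ht
    have h3 := congrArg (fun z => (BB k σ (p+1)).repr z t) h1
    simp only [map_sum, map_smul, Module.Basis.repr_self, Finsupp.coe_finsetSum, Finsupp.coe_smul,
      Finset.sum_apply, Pi.smul_apply, map_zero, Finsupp.coe_zero, Pi.zero_apply,
      Finsupp.single_apply, smul_eq_mul, mul_ite, mul_one, mul_zero] at h3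
    rw [Finset.sum_ite_eq' c.support t, if_pos ht] at h3
    exact euler_add_injective δ hδ (p+1) (by omega) _ h3
  rw [hy]
  exact Finset.sum_eq_zero fun s hs => by rw [h2 s hs, zero_smul]

theorem poincare_PS [CharZero k] (hd : DeRham.IsDiff δ d) (p : ℕ) :
    DeRham.cocycles d (p + 1) ≤ DeRham.coboundaries d (p + 1) := by
  intro y hy
  have hy0 : d (p+1) y = 0 := hy
  obtain ⟨y', hy'⟩ := liePS_surjective δ hδ d hd p y
  have hdd : ∀ q z, d (q+1) (d q z) = 0 := fun q z => LinearMap.congr_fun (hd.2 q) z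
  have hu : d (p+1) y' = 0 := by
    apply liePS_injective δ hδ d hd (p+1)
    unfold liePS
    rw [hdd, map_zero, add_zero]
    have : d (p+1) y = d (p+1) (contrG epsPS (p+1) (d (p+1) y')) := by
      rw [← hy']
      unfold liePS
      rw [map_add, hdd, zero_add]
    rw [← this, hy0]
  show y ∈ LinearMap.range (d p)
  refine ⟨contrG epsPS p y', ?_⟩
  rw [← hy']
  unfold liePS
  rw [hu, map_zero, add_zero]

end

end Groth.Agent.Lib.Helper5.Poinc
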